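import Groth.Prelude.Def_ProEtW
import Groth.Agent.ConsTop.Basic
import Mathlib

/-!
In a w-local space every connected component contains exactly one closed point.
-/

set_option autoImplicit false
set_option linter.style.haveILetI false

universe u

open Topology

namespace Groth.Agent.WLocalPi0

variable {X : Type u} [TopologicalSpace X]

/-- two points without a common generalisation have disjoint neighbourhoods -/
theorem exists_disjoint_nhds [SpectralSpace X] {d e : X} (h : ∀ x : X, x ⤳ d → ¬ x ⤳ e) :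
    ∃ U V : Set X, IsOpen U ∧ IsOpen V ∧ d ∈ U ∧ e ∈ V ∧ Disjoint U V := by
  let ι := {W : Set X // IsOpen W ∧ IsCompact W ∧ (d ∈ W ∨ e ∈ W)}
  have huniv : @IsCompact X (constructibleTopology X) Set.univ := ConsTop.isCompact_cons isOpen_univ isCompact_univ
  have hcl : ∀ W : ι, @IsClosed X (constructibleTopology X) W.1 := fun W =>
    (@isOpen_compl_iff X W.1 (constructibleTopology X)).mp (ConsTop.isOpen_compl_of_isCompact W.2.1 W.2.2.1)
  have hempty : Set.univ ∩ (⋂ W : ι, W.1) = ∅ := by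
    rw [Set.univ_inter, Set.eq_empty_iff_forall_notMem]
    intro x hx
    rw [Set.mem_iInter] at hx
    refine h x (specializes_iff_forall_open.mpr fun O hO hdO => ?_)
      (specializes_iff_forall_open.mpr fun O hO heO => ?_)
    · obtain ⟨W, ⟨hW, hWc⟩, hdW, hWO⟩ :=
        PrespectralSpace.isTopologicalBasis.exists_subset_of_mem_open hdO hO
      exact hWO (hx ⟨W, hW, hWc, Or.inl hdW⟩)
    · obtain ⟨W, ⟨hW, hWc⟩, heW, hWO⟩ :=
        PrespectralSpace.isTopologicalBasis.exists_subset_of_mem_open heO hO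
      exact hWO (hx ⟨W, hW, hWc, Or.inr heW⟩)
  obtain ⟨t, ht⟩ : ∃ t : Finset ι, Set.univ ∩ (⋂ W ∈ t, W.1) = ∅ :=
    @IsCompact.elim_finite_subfamily_closed X (constructibleTopology X) Set.univ ι huniv _ hcl hempty
  classical
  let S₁ : Set ι := {W | W ∈ t ∧ d ∈ W.1}
  let S₂ : Set ι := {W | W ∈ t ∧ d ∉ W.1}
  have h₁ : S₁.Finite := t.finite_toSet.subset fun W hW => hW.1
  have h₂ : S₂.Finite := t.finite_toSet.subset fun W hW => hW.1
  refine ⟨⋂ W ∈ S₁, W.1, ⋂ W ∈ S₂, W.1, h₁.isOpen_biInter fun W _ => W.2.1,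
    h₂.isOpen_biInter fun W _ => W.2.1, Set.mem_iInter₂.mpr fun W hW => hW.2,
    Set.mem_iInter₂.mpr fun W hW => W.2.2.2.resolve_left hW.2, ?_⟩
  rw [Set.disjoint_left]
  intro x hx hx'
  have hxt : x ∈ Set.univ ∩ (⋂ W ∈ t, W.1) := by
    refine ⟨Set.mem_univ x, Set.mem_iInter₂.mpr fun W hW => ?_⟩
    by_cases hd : d ∈ W.1
    · exact Set.mem_iInter₂.mp hx W ⟨hW, hd⟩
    · exact Set.mem_iInter₂.mp hx' W ⟨hW, hd⟩
  rw [ht] at hxt
  exact Set.notMem_empty x hxt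

/-- pairwise separated compact sets have disjoint neighbourhoods -/
theorem separatedNhds {D E : Set X} (hD : IsCompact D) (hE : IsCompact E)
    (h : ∀ d ∈ D, ∀ e ∈ E, ∃ U V : Set X, IsOpen U ∧ IsOpen V ∧ d ∈ U ∧ e ∈ V ∧ Disjoint U V) :
    ∃ U V : Set X, IsOpen U ∧ IsOpen V ∧ D ⊆ U ∧ E ⊆ V ∧ Disjoint U V := by
  have h1 : ∀ d ∈ D, ∃ U V : Set X, IsOpen U ∧ IsOpen V ∧ d ∈ U ∧ E ⊆ V ∧ Disjoint U V := by
    intro d hd
    choose! U V hU hV hdU heV hdis using h d hd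
    obtain ⟨t, htE, ht⟩ := hE.elim_nhds_subcover V fun e he => (hV e he).mem_nhds (heV e he)
    refine ⟨⋂ e ∈ t, U e, ⋃ e ∈ t, V e, isOpen_biInter_finset fun e he => hU e (htE e he),
      isOpen_biUnion fun e he => hV e (htE e he), Set.mem_iInter₂.mpr fun e he => hdU e (htE e he), ht, ?_⟩
    rw [Set.disjoint_left]
    intro x hx hx'
    obtain ⟨e, he, hxe⟩ := Set.mem_iUnion₂.mp hx'
    exact Set.disjoint_left.mp (hdis e (htE e he)) (Set.mem_iInter₂.mp hx e he) hxe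
  choose! U V hU hV hdU hEV hdis using h1
  obtain ⟨t, htD, ht⟩ := hD.elim_nhds_subcover U fun d hd => (hU d hd).mem_nhds (hdU d hd)
  refine ⟨⋃ d ∈ t, U d, ⋂ d ∈ t, V d, isOpen_biUnion fun d hd => hU d (htD d hd),
    isOpen_biInter_finset fun d hd => hV d (htD d hd), ht, Set.subset_iInter₂ fun d hd => hEV d (htD d hd), ?_⟩
  rw [Set.disjoint_left]
  intro x hx hx'
  obtain ⟨d, hd, hxd⟩ := Set.mem_iUnion₂.mp hx
  exact Set.disjoint_left.mp (hdis d (htD d hd)) hxd (Set.mem_iInter₂.mp hx' d hd)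

/-- two closed points of one connected component of a w-local space are equal -/
theorem eq_of_isClosed_of_mem_connectedComponent (hX : ProEtW.IsWLocal X) {n n' : X}
    (hn : IsClosed ({n} : Set X)) (hn' : IsClosed ({n'} : Set X)) (h : n' ∈ connectedComponent n) : n' = n := by
  obtain ⟨hs, hC, hu⟩ := hX
  by_contra hne
  let C : Set X := {x | IsClosed ({x} : Set X)}
  have hsep : ∀ d ∈ C, ∀ e ∈ C, d ≠ e → ∀ x : X, x ⤳ d → ¬ x ⤳ e := fun d hd e he hde x hxd hxe =>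
    hde ((hu x).unique ⟨hd, hxd⟩ ⟨he, hxe⟩)
  obtain ⟨A, B, hA, hB, hnA, hn'B, hAB⟩ := exists_disjoint_nhds (hsep n hn n' hn' (Ne.symm hne))
  obtain ⟨W, ⟨hW, hWc⟩, hnW, hWA⟩ := PrespectralSpace.isTopologicalBasis.exists_subset_of_mem_open hnA hA
  have hD : IsCompact (W ∩ C) := hWc.inter_right hC
  have hE : IsCompact (Wᶜ ∩ C) := ((hW.isClosed_compl).inter hC).isCompact
  obtain ⟨U, V, hU, hV, hDU, hEV, hUV⟩ := separatedNhds hD hE fun d hd e he =>
    exists_disjoint_nhds (hsep d hd.2 e he.2 fun hde => he.1 (hde ▸ hd.1))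
  have hcov : Vᶜ = U := by
    refine Set.Subset.antisymm (fun x hx => ?_) (Set.disjoint_left.mp hUV : ∀ ⦃x⦄, x ∈ U → x ∉ V)
    obtain ⟨y, ⟨hy, hxy⟩, -⟩ := hu x
    by_cases hyW : y ∈ W
    · exact hxy.mem_open hU (hDU ⟨hyW, hy⟩)
    · exact absurd (hxy.mem_open hV (hEV ⟨hyW, hy⟩)) hx
  have hcl : IsClopen U := ⟨hcov ▸ hV.isClosed_compl, hU⟩
  have hn'V : n' ∈ V := hEV ⟨fun hh => Set.disjoint_left.mp hAB (hWA hh) hn'B, hn'⟩
  exact Set.disjoint_left.mp hUV (hcl.connectedComponent_subset (hDU ⟨hnW, hn⟩) h) hn'V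

end Groth.Agent.WLocalPi0
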